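import Mathlib

/-!
Cartesian squares of whiskered morphisms over a base scheme.
-/

set_option autoImplicit false
universe u

open CategoryTheory CategoryTheory.Limits MonoidalCategory CartesianMonoidalCategory AlgebraicGeometry

namespace WhiskerPb

variable {S : Scheme.{u}}

/-- Forgetting the base preserves cartesian squares. -/
theorem isPullback_left {P A B C : Over S} {a : P ⟶ A} {b : P ⟶ B} {f : A ⟶ C} {g : B ⟶ C}
    (h : IsPullback a b f g) : IsPullback a.left b.left f.left g.left :=
  h.map (Over.forget S)

/-- `A ⊗ C` is the base change of `A` along `B ⊗ C → B`. -/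
theorem isPullback_whiskerRight {A B : Over S} (f : A ⟶ B) (C : Over S) :
    IsPullback (fst A C) (f ▷ C) f (fst B C) := by
  refine ⟨⟨by simp⟩, ⟨PullbackCone.IsLimit.mk _ (fun s => lift s.fst (s.snd ≫ snd B C))
    (fun s => by simp) (fun s => ?_) (fun s m h₁ h₂ => ?_)⟩⟩
  · apply CartesianMonoidalCategory.hom_ext
    · simp [s.condition]
    · simp
  · apply CartesianMonoidalCategory.hom_ext
    · simp [h₁]
    · simp [← h₂]

theorem isPullback_whiskerRight_left {A B : Over S} (f : A ⟶ B) (C : Over S) :
    IsPullback (fst A C).left (f ▷ C).left f.left (fst B C).left :=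
  isPullback_left (isPullback_whiskerRight f C)

end WhiskerPb
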